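import Cfsg.Agent.H914.SixThirteen
import Cfsg.Agent.H156.SN.Main
import Cfsg.Agent.H464.L2Num
import Cfsg.Agent.H464.L2Two
import Cfsg.Agent.H830.Sl2Type
import Cfsg.Agent.H912.FiveList

/-!
# S5806: the rows `L₂(q)`, cross characteristic (helper931)
-/

set_option autoImplicit false
set_option linter.unusedSectionVars false

namespace Cfsg.Agent.H931.Sp6

open Cfsg Cfsg.Geo Matrix Cfsg.Agent.H915.LD Cfsg.Agent.H464.Sl2 Cfsg.Agent.H914.S6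

universe u

variable {F : Type u} [Field F] [Fintype F] {H P : Subgroup (GL (Fin 3 ⊕ Fin 3) F)}

/-- the alternative `L₂(7)` of S5806 -/
def Seven (p : ℕ) (P : Subgroup (GL (Fin 3 ⊕ Fin 3) F)) : Prop :=
  Nonempty ((P ⧸ (scalars (Fin 3 ⊕ Fin 3) F).subgroupOf P) ≃* Matrix.ProjectiveSpecialLinearGroup (Fin 2) (ZMod 7)) ∧
    ((Fintype.card F = p ∧ p ≠ 7 ∧ (p % 16 = 1 ∨ p % 16 = 15 ∨ p % 16 = 7 ∨ p % 16 = 9)) ∨
      (Fintype.card F = p ^ 2 ∧ p ≠ 3 ∧ (p % 16 = 3 ∨ p % 16 = 13 ∨ p % 16 = 5 ∨ p % 16 = 11)))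

/-- the alternative `L₂(13)` of S5806 -/
def Thirteen (p : ℕ) (P : Subgroup (GL (Fin 3 ⊕ Fin 3) F)) : Prop :=
  Nonempty ((P ⧸ (scalars (Fin 3 ⊕ Fin 3) F).subgroupOf P) ≃* Matrix.ProjectiveSpecialLinearGroup (Fin 2) (ZMod 13)) ∧
    ((Fintype.card F = p ∧ (p % 13 = 1 ∨ p % 13 = 12 ∨ p % 13 = 3 ∨ p % 13 = 10 ∨ p % 13 = 4 ∨ p % 13 = 9)) ∨
      (Fintype.card F = p ^ 2 ∧ p ≠ 2 ∧
        (p % 13 = 2 ∨ p % 13 = 11 ∨ p % 13 = 5 ∨ p % 13 = 8 ∨ p % 13 = 6 ∨ p % 13 = 7)))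

theorem card6 : Fintype.card (Fin 3 ⊕ Fin 3) = 6 := by simp

section

variable (p : ℕ) [hp : Fact p.Prime] [CharP F p]

theorem two_zero (h : p = 2) : (2 : F) = 0 := by
  subst h
  exact_mod_cast CharP.cast_eq_zero F 2

/-- **`L₂(7)`** -/
theorem row_seven (S : Hyp 3 H P) {K : Type} [Field K] [Fintype K] (hK : Fintype.card K = 7) (hp7 : p ≠ 7)
    (e : Soc P ≃* ProjectiveSpecialLinearGroup (Fin 2) K) : Seven p P := by
  have hC := S.toCore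
  have he : Nonempty (Soc P ≃* ProjectiveSpecialLinearGroup (Fin 2) (ZMod 7)) :=
    H912.Five.psl_zmod (by norm_num) ⟨K, inferInstance, inferInstance, hK, ⟨e⟩⟩
  have hpK : ¬ p ∣ Fintype.card K := by
    rw [hK]
    intro hd
    exact hp7 ((Nat.prime_dvd_prime_iff_eq hp.out (by norm_num)).1 hd)
  obtain ⟨hp2, hF⟩ := l2_7_6 p hC hK hp7 e card6
  refine ⟨he, ?_⟩
  rcases hF with ⟨hb, -⟩ | ⟨-, hF, h8⟩ | ⟨-, hF, h8⟩
  · exfalso
    obtain ⟨Q, hQ⟩ := (H830.Sl2Form.l2_fixQ p hp2 hC (by omega) (by omega) hpK e hb S.sd).1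
    exact S.noQ ⟨Q, hQ⟩
  · exact Or.inl ⟨hF, hp7, by omega⟩
  · refine Or.inr ⟨hF, ?_, by omega⟩
    rintro rfl
    exact H156.SNT.seven_nine S he (by rw [hF]; norm_num)

/-- **`L₂(13)`** -/
theorem row_thirteen (S : Hyp 3 H P) {K : Type} [Field K] [Fintype K] (hK : Fintype.card K = 13) (hp13 : p ≠ 13)
    (e : Soc P ≃* ProjectiveSpecialLinearGroup (Fin 2) K) : Thirteen p P := by
  have hC := S.toCore
  have he : Nonempty (Soc P ≃* ProjectiveSpecialLinearGroup (Fin 2) (ZMod 13)) :=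
    H912.Five.psl_zmod (by norm_num) ⟨K, inferInstance, inferInstance, hK, ⟨e⟩⟩
  obtain ⟨-, -, hF⟩ := l2_13_6 p hC hK hp13 e card6
  have hp2 : p ≠ 2 := fun h => by
    obtain ⟨e'⟩ := he
    exact H914.S6.Spin.L.thirteen_two S (two_zero p h) e'
  refine ⟨he, ?_⟩
  rcases hF with ⟨hF, h1⟩ | ⟨hF, h1⟩
  · exact Or.inl ⟨hF, by tauto⟩
  · exact Or.inr ⟨hF, hp2, by tauto⟩

/-- **`L₂(q)`, `q ≥ 7`, `q ≠ 9`, `p ∤ q`.** -/
theorem l2_row (S : Hyp 3 H P) {K : Type} [Field K] [Fintype K] (h5 : 6 ≤ Fintype.card K)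
    (h9 : Fintype.card K ≠ 9) (hpK : ¬ p ∣ Fintype.card K) (e : Soc P ≃* ProjectiveSpecialLinearGroup (Fin 2) K) :
    Seven p P ∨ Thirteen p P := by
  have hC := S.toCore
  have hd := l2_degrees p hC (by omega) h9 hpK e (by rw [card6]; norm_num)
  simp only [card6] at hd
  rcases hd with ⟨hK, hd⟩ | ⟨hK, hd⟩ | ⟨hK, hd⟩ | ⟨hK, hd⟩ | ⟨hK, hd⟩ | ⟨hK, hd⟩ | ⟨hK, hd⟩ | ⟨hK, hd⟩ | ⟨hK, hd⟩
  · omega
  · refine Or.inl (row_seven p S hK ?_ e)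
    rintro rfl
    exact hpK (by rw [hK])
  · exact absurd hd (by decide)
  · have hp11 : p ≠ 11 := by
      rintro rfl
      exact hpK (by rw [hK])
    exact absurd S.sd (l2_11_6 p hC hK hp11 e card6).2.1
  · refine Or.inr (row_thirteen p S hK ?_ e)
    rintro rfl
    exact hpK (by rw [hK])
  · exact absurd hd (by decide)
  · exact absurd hd (by decide)
  · exact absurd hd (by decide)
  · exact absurd hd (by decide)

/-- **The rows `L₂(q)` of S5806.** -/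
theorem l2_rows (S : Hyp 3 H P) {q : ℕ} (hq : q ∈ ({7, 8, 11, 13, 17, 19, 23, 25} : Finset ℕ)) (hpq : ¬ p ∣ q)
    (h : H912.Bd.IsL 2 q (Soc P)) : Seven p P ∨ Thirteen p P := by
  obtain ⟨K, iF, iT, hK, ⟨e⟩⟩ := h
  have h5 : 6 ≤ Fintype.card K := by
    rw [hK]; simp only [Finset.mem_insert, Finset.mem_singleton] at hq; omega
  have h9 : Fintype.card K ≠ 9 := by
    rw [hK]; simp only [Finset.mem_insert, Finset.mem_singleton] at hq; omega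
  exact l2_row p S h5 h9 (by rwa [hK]) e

end

end Cfsg.Agent.H931.Sp6
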