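import Cfsg.Agent.H931.Sp6.L2
import Cfsg.Agent.H659.U3Stage
import Cfsg.Agent.H936.U33Two
import Cfsg.Agent.H476.JTwo.Main
import Cfsg.Agent.H4.JT.FieldJ2
import Cfsg.Agent.H914.SixJTwo

/-!
# S5806: the rows `U₃(3)` and `J₂`, cross characteristic (helper931)
-/

set_option autoImplicit false
set_option linter.unusedSectionVars false

namespace Cfsg.Agent.H931.Sp6

open Cfsg Cfsg.Geo Matrix Cfsg.Agent.H915.LD Cfsg.Agent.H914.S6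

universe u

variable {F : Type u} [Field F] [Fintype F] {H P : Subgroup (GL (Fin 3 ⊕ Fin 3) F)}

/-- the alternative `U₃(3)` of S5806 -/
def UThree (p : ℕ) (P : Subgroup (GL (Fin 3 ⊕ Fin 3) F)) : Prop :=
  (∃ (K : Type) (_ : Field K) (_ : Fintype K), Fintype.card K = 9 ∧
    Nonempty ((P ⧸ (scalars (Fin 3 ⊕ Fin 3) F).subgroupOf P) ≃* Cfsg.PSU 3 K 3)) ∧
    (Fintype.card F = 2 ∨ (Fintype.card F = p ∧
      (p % 60 = 7 ∨ p % 60 = 53 ∨ p % 60 = 17 ∨ p % 60 = 43 ∨ p % 12 = 1 ∨ p % 12 = 11)))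

/-- the alternative `J₂` of S5806 -/
def JTwo (p : ℕ) (P : Subgroup (GL (Fin 3 ⊕ Fin 3) F)) : Prop :=
  Cfsg.Spor.IsoJ2 (P ⧸ (scalars (Fin 3 ⊕ Fin 3) F).subgroupOf P) ∧
    ((Fintype.card F = p ∧ (p % 5 = 0 ∨ p % 5 = 1 ∨ p % 5 = 4)) ∨
      (Fintype.card F = p ^ 2 ∧ p ≠ 2 ∧ (p % 5 = 2 ∨ p % 5 = 3)))

theorem mod60 : ∀ r < 60, r % 2 = 1 → r % 3 ≠ 0 →
    ¬ (r = 7 ∨ r = 53 ∨ r = 17 ∨ r = 43 ∨ r % 12 = 1 ∨ r % 12 = 11) →
    (r % 12 = 5 ∨ r % 12 = 7) ∧ (r % 5 = 0 ∨ r % 5 = 1 ∨ r % 5 = 4) := by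
  intro r hr h1 h2 h3
  interval_cases r <;> omega

section

variable (p : ℕ) [hp : Fact p.Prime] [CharP F p]

/-- **`U₃(3)`** -/
theorem row_u33 (S : Hyp 3 H P) (hp3 : p ≠ 3) (h : H912.Bd.IsU 3 3 (Soc P)) : UThree p P := by
  obtain ⟨K, iF, iT, hK, ⟨e⟩⟩ := h
  have hC := S.toCore
  have hK9 : Fintype.card K = 9 := by rw [hK]; norm_num
  refine ⟨⟨K, iF, iT, hK9, ⟨e⟩⟩, ?_⟩
  by_cases hp2 : p = 2
  · subst hp2
    exact Or.inl (hC.card_eq 2 (H936.U33Two.u33_two hC hK9 ⟨e⟩ (by simp)).2.2)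
  · have hfr : Fr P p := by
      rcases (H659.U3.u33_stage hC p hp2 hp3 (by simp) hK9 e).2 with ⟨-, -, h⟩ | ⟨h, -⟩
      · exact h
      · simp at h
    have hF := hC.card_eq p hfr
    refine Or.inr ⟨hF, ?_⟩
    by_contra hcon
    have h2 : p % 2 = 1 := hp.out.eq_two_or_odd.resolve_left hp2
    have h3 : p % 3 ≠ 0 := fun h0 =>
      hp3 ((Nat.prime_dvd_prime_iff_eq (by norm_num) hp.out).1 (Nat.dvd_of_mod_eq_zero h0)).symm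
    have e2 : p % 60 % 2 = p % 2 := Nat.mod_mod_of_dvd p (by norm_num)
    have e3 : p % 60 % 3 = p % 3 := Nat.mod_mod_of_dvd p (by norm_num)
    have e5 : p % 60 % 5 = p % 5 := Nat.mod_mod_of_dvd p (by norm_num)
    have e12 : p % 60 % 12 = p % 12 := Nat.mod_mod_of_dvd p (by norm_num)
    obtain ⟨h4, h5⟩ := mod60 (p % 60) (Nat.mod_lt _ (by norm_num)) (by rw [e2, h2]) (by rwa [e3]) (by rwa [e12])
    rw [e12] at h4
    rw [e5] at h5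
    exact H476.JTwo.u33_hall S p hF hK9 ⟨e⟩ h4 h5

/-- **`J₂`** -/
theorem row_j2 (S : Hyp 3 H P) (h : Cfsg.Spor.IsoJ2 (Soc P)) : JTwo p P := by
  by_cases hp2 : p = 2
  · exact (Spin.J.jtwo_two S (two_zero p hp2) h).elim
  · refine ⟨h, ?_⟩
    rcases H4.JT.j2_six_field S.toCore p hp2 card6 h with ⟨hF, h1⟩ | ⟨hF, h1⟩
    · exact Or.inl ⟨hF, h1⟩
    · exact Or.inr ⟨hF, hp2, h1⟩

end

end Cfsg.Agent.H931.Sp6
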